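import Mathlib
import Cfsg.Agent.Lib.Helper56.TC
import Cfsg.Agent.Lib.Helper56.Fi23U8.C0
import Cfsg.Agent.Lib.Helper56.Fi23U8.C1
import Cfsg.Agent.Lib.Helper56.Fi23U8.C2
import Cfsg.Agent.Lib.Helper56.Fi23U8.C3
import Cfsg.Agent.Lib.Helper56.Fi23U8.C4
import Cfsg.Agent.Lib.Helper56.Fi23U8.C5
import Cfsg.Agent.Lib.Helper56.Fi23U8.C6
import Cfsg.Agent.Lib.Helper56.Fi23U8.C7
import Cfsg.Agent.Lib.Helper56.Fi23U8.C8
import Cfsg.Agent.Lib.Helper56.Fi23U8.C9
import Cfsg.Agent.Lib.Helper56.Fi23U8.C10
set_option autoImplicit false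
set_option maxRecDepth 1000000

namespace Cfsg.Agent.Lib.Helper56.Fi23U8

open Cfsg.Agent.Lib.Helper56.TC Cfsg.Agent.Lib.Helper56.TC.Tabs

theorem uN_512 : Upto T.chkName 512 := upto_add (upto_zero T.chkName) rfl cN_0
theorem uN_1028 : Upto T.chkName 1028 := upto_add uN_512 rfl cN_512
theorem uN_1546 : Upto T.chkName 1546 := upto_add uN_1028 rfl cN_1028
theorem uN_2065 : Upto T.chkName 2065 := upto_add uN_1546 rfl cN_1546
theorem uN_2585 : Upto T.chkName 2585 := upto_add uN_2065 rfl cN_2065
theorem uN_3104 : Upto T.chkName 3104 := upto_add uN_2585 rfl cN_2585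
theorem uN_3624 : Upto T.chkName 3624 := upto_add uN_3104 rfl cN_3104
theorem uN_4147 : Upto T.chkName 4147 := upto_add uN_3624 rfl cN_3624
theorem uN_4669 : Upto T.chkName 4669 := upto_add uN_4147 rfl cN_4147
theorem uN_5190 : Upto T.chkName 5190 := upto_add uN_4669 rfl cN_4669
theorem uN_5714 : Upto T.chkName 5714 := upto_add uN_5190 rfl cN_5190
theorem uN_6238 : Upto T.chkName 6238 := upto_add uN_5714 rfl cN_5714
theorem uN_6756 : Upto T.chkName 6756 := upto_add uN_6238 rfl cN_6238
theorem uN_7282 : Upto T.chkName 7282 := upto_add uN_6756 rfl cN_6756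
theorem uN_7805 : Upto T.chkName 7805 := upto_add uN_7282 rfl cN_7282
theorem uN_8325 : Upto T.chkName 8325 := upto_add uN_7805 rfl cN_7805
theorem uN_8852 : Upto T.chkName 8852 := upto_add uN_8325 rfl cN_8325
theorem uN_9371 : Upto T.chkName 9371 := upto_add uN_8852 rfl cN_8852
theorem uN_9882 : Upto T.chkName 9882 := upto_add uN_9371 rfl cN_9371
theorem uN_10416 : Upto T.chkName 10416 := upto_add uN_9882 rfl cN_9882
theorem uN_10940 : Upto T.chkName 10940 := upto_add uN_10416 rfl cN_10416
theorem uN_11451 : Upto T.chkName 11451 := upto_add uN_10940 rfl cN_10940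
theorem uN_11966 : Upto T.chkName 11966 := upto_add uN_11451 rfl cN_11451
theorem uN_12500 : Upto T.chkName 12500 := upto_add uN_11966 rfl cN_11966
theorem uN_13026 : Upto T.chkName 13026 := upto_add uN_12500 rfl cN_12500
theorem uN_13537 : Upto T.chkName 13537 := upto_add uN_13026 rfl cN_13026
theorem uN_14051 : Upto T.chkName 14051 := upto_add uN_13537 rfl cN_13537
theorem uN_14591 : Upto T.chkName 14591 := upto_add uN_14051 rfl cN_14051
theorem uN_15115 : Upto T.chkName 15115 := upto_add uN_14591 rfl cN_14591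
theorem uN_15624 : Upto T.chkName 15624 := upto_add uN_15115 rfl cN_15115
theorem uN_16151 : Upto T.chkName 16151 := upto_add uN_15624 rfl cN_15624
theorem uN_16683 : Upto T.chkName 16683 := upto_add uN_16151 rfl cN_16151
theorem uN_17202 : Upto T.chkName 17202 := upto_add uN_16683 rfl cN_16683
theorem uN_17716 : Upto T.chkName 17716 := upto_add uN_17202 rfl cN_17202
theorem uN_18260 : Upto T.chkName 18260 := upto_add uN_17716 rfl cN_17716
theorem uN_18779 : Upto T.chkName 18779 := upto_add uN_18260 rfl cN_18260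
theorem uN_19297 : Upto T.chkName 19297 := upto_add uN_18779 rfl cN_18779
theorem uN_19838 : Upto T.chkName 19838 := upto_add uN_19297 rfl cN_19297
theorem uN_20358 : Upto T.chkName 20358 := upto_add uN_19838 rfl cN_19838
theorem uN_20895 : Upto T.chkName 20895 := upto_add uN_20358 rfl cN_20358
theorem uN_21417 : Upto T.chkName 21417 := upto_add uN_20895 rfl cN_20895
theorem uN_21947 : Upto T.chkName 21947 := upto_add uN_21417 rfl cN_21417
theorem uN_22481 : Upto T.chkName 22481 := upto_add uN_21947 rfl cN_21947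
theorem uN_23002 : Upto T.chkName 23002 := upto_add uN_22481 rfl cN_22481
theorem uN_23541 : Upto T.chkName 23541 := upto_add uN_23002 rfl cN_23002
theorem uN_24052 : Upto T.chkName 24052 := upto_add uN_23541 rfl cN_23541
theorem uN_24599 : Upto T.chkName 24599 := upto_add uN_24052 rfl cN_24052
theorem uN_25112 : Upto T.chkName 25112 := upto_add uN_24599 rfl cN_24599
theorem uN_25654 : Upto T.chkName 25654 := upto_add uN_25112 rfl cN_25112
theorem uN_26166 : Upto T.chkName 26166 := upto_add uN_25654 rfl cN_25654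
theorem uN_26708 : Upto T.chkName 26708 := upto_add uN_26166 rfl cN_26166
theorem uN_27237 : Upto T.chkName 27237 := upto_add uN_26708 rfl cN_26708
theorem uN_27760 : Upto T.chkName 27760 := upto_add uN_27237 rfl cN_27237
theorem uN_28325 : Upto T.chkName 28325 := upto_add uN_27760 rfl cN_27760
theorem uN_28976 : Upto T.chkName 28976 := upto_add uN_28325 rfl cN_28325
theorem uN_29630 : Upto T.chkName 29630 := upto_add uN_28976 rfl cN_28976
theorem uN_30290 : Upto T.chkName 30290 := upto_add uN_29630 rfl cN_29630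
theorem uN_30956 : Upto T.chkName 30956 := upto_add uN_30290 rfl cN_30290
theorem uN_31620 : Upto T.chkName 31620 := upto_add uN_30956 rfl cN_30956
theorem uN_32300 : Upto T.chkName 32300 := upto_add uN_31620 rfl cN_31620
theorem uN_33004 : Upto T.chkName 33004 := upto_add uN_32300 rfl cN_32300
theorem uN_33067 : Upto T.chkName 33067 := upto_add uN_33004 rfl cN_33004
theorem uV_415 : Upto T.chkV 415 := upto_add (upto_zero T.chkV) rfl cV_0
theorem uV_830 : Upto T.chkV 830 := upto_add uV_415 rfl cV_415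
theorem uV_1245 : Upto T.chkV 1245 := upto_add uV_830 rfl cV_830
theorem uV_1660 : Upto T.chkV 1660 := upto_add uV_1245 rfl cV_1245
theorem uV_2075 : Upto T.chkV 2075 := upto_add uV_1660 rfl cV_1660
theorem uV_2490 : Upto T.chkV 2490 := upto_add uV_2075 rfl cV_2075
theorem uV_2905 : Upto T.chkV 2905 := upto_add uV_2490 rfl cV_2490
theorem uV_3320 : Upto T.chkV 3320 := upto_add uV_2905 rfl cV_2905
theorem uV_3735 : Upto T.chkV 3735 := upto_add uV_3320 rfl cV_3320
theorem uV_4150 : Upto T.chkV 4150 := upto_add uV_3735 rfl cV_3735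
theorem uV_4565 : Upto T.chkV 4565 := upto_add uV_4150 rfl cV_4150
theorem uV_4980 : Upto T.chkV 4980 := upto_add uV_4565 rfl cV_4565
theorem uV_5395 : Upto T.chkV 5395 := upto_add uV_4980 rfl cV_4980
theorem uV_5810 : Upto T.chkV 5810 := upto_add uV_5395 rfl cV_5395
theorem uV_6225 : Upto T.chkV 6225 := upto_add uV_5810 rfl cV_5810
theorem uV_6640 : Upto T.chkV 6640 := upto_add uV_6225 rfl cV_6225
theorem uV_7055 : Upto T.chkV 7055 := upto_add uV_6640 rfl cV_6640
theorem uV_7470 : Upto T.chkV 7470 := upto_add uV_7055 rfl cV_7055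
theorem uV_7885 : Upto T.chkV 7885 := upto_add uV_7470 rfl cV_7470
theorem uV_8300 : Upto T.chkV 8300 := upto_add uV_7885 rfl cV_7885
theorem uV_8715 : Upto T.chkV 8715 := upto_add uV_8300 rfl cV_8300
theorem uV_9130 : Upto T.chkV 9130 := upto_add uV_8715 rfl cV_8715
theorem uV_9545 : Upto T.chkV 9545 := upto_add uV_9130 rfl cV_9130
theorem uV_9960 : Upto T.chkV 9960 := upto_add uV_9545 rfl cV_9545
theorem uV_10375 : Upto T.chkV 10375 := upto_add uV_9960 rfl cV_9960
theorem uV_10790 : Upto T.chkV 10790 := upto_add uV_10375 rfl cV_10375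
theorem uV_11205 : Upto T.chkV 11205 := upto_add uV_10790 rfl cV_10790
theorem uV_11620 : Upto T.chkV 11620 := upto_add uV_11205 rfl cV_11205
theorem uV_12035 : Upto T.chkV 12035 := upto_add uV_11620 rfl cV_11620
theorem uV_12450 : Upto T.chkV 12450 := upto_add uV_12035 rfl cV_12035
theorem uV_12865 : Upto T.chkV 12865 := upto_add uV_12450 rfl cV_12450
theorem uV_13280 : Upto T.chkV 13280 := upto_add uV_12865 rfl cV_12865
theorem uV_13695 : Upto T.chkV 13695 := upto_add uV_13280 rfl cV_13280
theorem uV_14110 : Upto T.chkV 14110 := upto_add uV_13695 rfl cV_13695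
theorem uV_14525 : Upto T.chkV 14525 := upto_add uV_14110 rfl cV_14110
theorem uV_14940 : Upto T.chkV 14940 := upto_add uV_14525 rfl cV_14525
theorem uV_15355 : Upto T.chkV 15355 := upto_add uV_14940 rfl cV_14940
theorem uV_15770 : Upto T.chkV 15770 := upto_add uV_15355 rfl cV_15355
theorem uV_16185 : Upto T.chkV 16185 := upto_add uV_15770 rfl cV_15770
theorem uV_16600 : Upto T.chkV 16600 := upto_add uV_16185 rfl cV_16185
theorem uV_17015 : Upto T.chkV 17015 := upto_add uV_16600 rfl cV_16600
theorem uV_17430 : Upto T.chkV 17430 := upto_add uV_17015 rfl cV_17015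
theorem uV_17845 : Upto T.chkV 17845 := upto_add uV_17430 rfl cV_17430
theorem uV_18260 : Upto T.chkV 18260 := upto_add uV_17845 rfl cV_17845
theorem uV_18675 : Upto T.chkV 18675 := upto_add uV_18260 rfl cV_18260
theorem uV_19090 : Upto T.chkV 19090 := upto_add uV_18675 rfl cV_18675
theorem uV_19505 : Upto T.chkV 19505 := upto_add uV_19090 rfl cV_19090
theorem uV_19920 : Upto T.chkV 19920 := upto_add uV_19505 rfl cV_19505
theorem uV_20335 : Upto T.chkV 20335 := upto_add uV_19920 rfl cV_19920
theorem uV_20750 : Upto T.chkV 20750 := upto_add uV_20335 rfl cV_20335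
theorem uV_21165 : Upto T.chkV 21165 := upto_add uV_20750 rfl cV_20750
theorem uV_21580 : Upto T.chkV 21580 := upto_add uV_21165 rfl cV_21165
theorem uV_21995 : Upto T.chkV 21995 := upto_add uV_21580 rfl cV_21580
theorem uV_22410 : Upto T.chkV 22410 := upto_add uV_21995 rfl cV_21995
theorem uV_22825 : Upto T.chkV 22825 := upto_add uV_22410 rfl cV_22410
theorem uV_23240 : Upto T.chkV 23240 := upto_add uV_22825 rfl cV_22825
theorem uV_23655 : Upto T.chkV 23655 := upto_add uV_23240 rfl cV_23240
theorem uV_24070 : Upto T.chkV 24070 := upto_add uV_23655 rfl cV_23655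
theorem uV_24485 : Upto T.chkV 24485 := upto_add uV_24070 rfl cV_24070
theorem uV_24900 : Upto T.chkV 24900 := upto_add uV_24485 rfl cV_24485
theorem uV_25315 : Upto T.chkV 25315 := upto_add uV_24900 rfl cV_24900
theorem uV_25730 : Upto T.chkV 25730 := upto_add uV_25315 rfl cV_25315
theorem uV_26145 : Upto T.chkV 26145 := upto_add uV_25730 rfl cV_25730
theorem uV_26560 : Upto T.chkV 26560 := upto_add uV_26145 rfl cV_26145
theorem uV_26975 : Upto T.chkV 26975 := upto_add uV_26560 rfl cV_26560
theorem uV_27390 : Upto T.chkV 27390 := upto_add uV_26975 rfl cV_26975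
theorem uV_27805 : Upto T.chkV 27805 := upto_add uV_27390 rfl cV_27390
theorem uV_28160 : Upto T.chkV 28160 := upto_add uV_27805 rfl cV_27805

/-- The certificate is valid. -/
theorem cert : T.Cert where
  h0 := by decide +kernel
  hrx := by decide +kernel
  hs0 := by decide +kernel
  hname := uN_33067
  hV := uV_28160

theorem orep_0 : T.orep 0 < T.N ∧ T.ol (T.orep 0) = 0 := by decide +kernel
theorem cnt_0 : countLt (fun v => Nat.beq (T.ol v) 0) T.N = 1 := by decide +kernel
theorem orep_1 : T.orep 1 < T.N ∧ T.ol (T.orep 1) = 1 := by decide +kernel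
theorem cnt_1 : countLt (fun v => Nat.beq (T.ol v) 1) T.N = 3159 := by decide +kernel
theorem orep_2 : T.orep 2 < T.N ∧ T.ol (T.orep 2) = 2 := by decide +kernel
theorem cnt_2 : countLt (fun v => Nat.beq (T.ol v) 2) T.N = 3159 := by decide +kernel
theorem orep_3 : T.orep 3 < T.N ∧ T.ol (T.orep 3) = 3 := by decide +kernel
theorem cnt_3 : countLt (fun v => Nat.beq (T.ol v) 3) T.N = 21840 := by decide +kernel
theorem orep_4 : T.orep 4 < T.N ∧ T.ol (T.orep 4) = 4 := by decide +kernel
theorem cnt_4 : countLt (fun v => Nat.beq (T.ol v) 4) T.N = 1 := by decide +kernel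

end Cfsg.Agent.Lib.Helper56.Fi23U8
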